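import Groth.Agent.Lib.Helper35.TorDim
import Mathlib

/-!
# Tor-independent base change of Tor dimension (helper16)

`B → D` flat, `X` a `D`-module which is flat over `B` with `TD n X` over `D`; `L` a `B`-algebra and
`E = L ⊗_B D` (abstractly: `Algebra.IsPushout B L D E`).  Then `TD n (E ⊗_D X)` over `E`.
-/

set_option autoImplicit false
set_option linter.unusedSectionVars false
set_option linter.style.haveILetI false
universe u
open CategoryTheory TensorProduct

namespace Groth.Agent.Lib.Helper16.DiagTor

open Groth.Agent.Lib.Helper35.TA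

section Mono

variable {B : Type u} [CommRing B]

/-- `TD` is monotone in the bound. -/
theorem TD_mono {R : Type u} [CommRing R] {n m : ℕ} (h : n ≤ m) (M : ModuleCat.{u} R)
    (hM : TD n M) : TD m M := fun N p hp => hM N p (lt_of_le_of_lt h hp)

/-- The kernel of a surjection of flat modules is flat. -/
theorem flat_of_shortExact (S : ShortComplex (ModuleCat.{u} B)) (hS : S.ShortExact)
    [Module.Flat B S.X₂] [Module.Flat B S.X₃] : Module.Flat B S.X₁ := by
  apply flat_of_TD_zero
  apply (TD_succ_iff S hS 0).1
  exact TD_mono (Nat.zero_le _) _ (TD_zero_of_flat S.X₃)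

end Mono

section Inj

variable {Bb L D E : Type u} [CommRing Bb] [CommRing L] [CommRing D] [CommRing E]
  [Algebra Bb L] [Algebra Bb D] [Algebra Bb E] [Algebra L E] [Algebra D E]
  [IsScalarTower Bb L E] [IsScalarTower Bb D E] [Algebra.IsPushout Bb L D E]

variable {Z F : Type u} [AddCommGroup Z] [AddCommGroup F] [Module D Z] [Module D F]
  [Module Bb Z] [Module Bb F] [IsScalarTower Bb D Z] [IsScalarTower Bb D F]

theorem baseChange_comp_cancel_symm (i : Z →ₗ[D] F) (x : L ⊗[Bb] Z) :
    (i.baseChange E) ((Algebra.IsPushout.cancelBaseChange Bb L D E Z).symm x) =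
      (Algebra.IsPushout.cancelBaseChange Bb L D E F).symm
        ((i.restrictScalars Bb).lTensor L x) := by
  induction x with
  | zero => simp
  | add x y hx hy => simp only [map_add, hx, hy]
  | tmul s z =>
    simp [Algebra.IsPushout.cancelBaseChange_symm_tmul]

theorem baseChange_injective_of_lTensor_injective (i : Z →ₗ[D] F)
    (h : Function.Injective ((i.restrictScalars Bb).lTensor L)) :
    Function.Injective (i.baseChange E) := by
  intro a b hab
  obtain ⟨a', rfl⟩ := (Algebra.IsPushout.cancelBaseChange Bb L D E Z).symm.surjective a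
  obtain ⟨b', rfl⟩ := (Algebra.IsPushout.cancelBaseChange Bb L D E Z).symm.surjective b
  rw [baseChange_comp_cancel_symm, baseChange_comp_cancel_symm] at hab
  have := h ((Algebra.IsPushout.cancelBaseChange Bb L D E F).symm.injective hab)
  rw [this]

end Inj

section Step

variable (Bb L D E : Type u) [CommRing Bb] [CommRing L] [CommRing D] [CommRing E]
  [Algebra Bb L] [Algebra Bb D] [Algebra Bb E] [Algebra L E] [Algebra D E]
  [IsScalarTower Bb L E] [IsScalarTower Bb D E]

variable {Z F X : Type u} [AddCommGroup Z] [AddCommGroup F] [AddCommGroup X]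
  [Module D Z] [Module D F] [Module D X]
  [Module Bb Z] [Module Bb F] [Module Bb X]
  [IsScalarTower Bb D Z] [IsScalarTower Bb D F] [IsScalarTower Bb D X]

/-- kernel of a surjection of `Bb`-flat modules is `Bb`-flat (linear-map form). -/
theorem flat_of_exact (i : Z →ₗ[D] F) (π : F →ₗ[D] X) (hi : Function.Injective i)
    (hπ : Function.Surjective π) (hex : Function.Exact i π)
    [Module.Flat Bb F] [Module.Flat Bb X] : Module.Flat Bb Z := by
  let SB : ShortComplex (ModuleCat.{u} Bb) :=
    ShortComplex.mk (X₁ := ModuleCat.of Bb Z) (X₂ := ModuleCat.of Bb F)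
      (X₃ := ModuleCat.of Bb X)
      (ModuleCat.ofHom (i.restrictScalars Bb)) (ModuleCat.ofHom (π.restrictScalars Bb))
      (by apply ModuleCat.hom_ext; apply LinearMap.ext; intro x
          exact hex.apply_apply_eq_zero x)
  have hSB : SB.ShortExact := ModuleCat.shortComplex_shortExact SB hex hi hπ
  haveI : Module.Flat Bb SB.X₂ := (inferInstance : Module.Flat Bb F)
  haveI : Module.Flat Bb SB.X₃ := (inferInstance : Module.Flat Bb X)
  exact flat_of_shortExact SB hSB

/-- One dimension-shifting step for the base change. -/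
theorem TD_succ_baseChange_step [Algebra.IsPushout Bb L D E]
    (i : Z →ₗ[D] F) (π : F →ₗ[D] X) (hi : Function.Injective i)
    (hπ : Function.Surjective π) (hex : Function.Exact i π)
    [Module.Flat D F] [Module.Flat Bb X] (n : ℕ)
    (hZ : TD n (ModuleCat.of E (E ⊗[D] Z))) : TD (n + 1) (ModuleCat.of E (E ⊗[D] X)) := by
  have hinj : Function.Injective (i.baseChange E) := by
    apply baseChange_injective_of_lTensor_injective (Bb := Bb) (L := L)
    exact LinearMap.lTensor_injective_of_exact_of_flat (π.restrictScalars Bb) hπ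
      (i.restrictScalars Bb) hi hex L
  have hsurj : Function.Surjective (π.baseChange E) := LinearMap.baseChange_surjective E hπ
  have hex' : Function.Exact (i.baseChange E) (π.baseChange E) := by
    have := _root_.lTensor_exact (f := i) (g := π) E hex hπ
    intro y
    rw [← LinearMap.baseChange_eq_ltensor, ← LinearMap.baseChange_eq_ltensor] at this
    exact this y
  let SE : ShortComplex (ModuleCat.{u} E) :=
    ShortComplex.mk (X₁ := ModuleCat.of E (E ⊗[D] Z)) (X₂ := ModuleCat.of E (E ⊗[D] F))
      (X₃ := ModuleCat.of E (E ⊗[D] X))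
      (ModuleCat.ofHom (i.baseChange E)) (ModuleCat.ofHom (π.baseChange E))
      (by apply ModuleCat.hom_ext; apply LinearMap.ext; intro x
          exact hex'.apply_apply_eq_zero x)
  have hSE : SE.ShortExact := ModuleCat.shortComplex_shortExact SE hex' hinj hsurj
  haveI : Module.Flat E SE.X₂ := (inferInstance : Module.Flat E (E ⊗[D] F))
  exact (TD_succ_iff SE hSE n).2 hZ

end Step

section BC

/-- Tor-independent base change of Tor dimension. -/
theorem TD_baseChange (Bb L D E : Type u) [CommRing Bb] [CommRing L] [CommRing D] [CommRing E]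
    [Algebra Bb L] [Algebra Bb D] [Algebra Bb E] [Algebra L E] [Algebra D E]
    [IsScalarTower Bb L E] [IsScalarTower Bb D E] [Algebra.IsPushout Bb L D E]
    [Module.Flat Bb D] : ∀ (n : ℕ) (X : Type u) [AddCommGroup X] [Module D X]
    [Module Bb X] [IsScalarTower Bb D X] [Module.Flat Bb X],
    TD n (ModuleCat.of D X) → TD n (ModuleCat.of E (E ⊗[D] X)) := by
  intro n
  induction n with
  | zero =>
    intro X _ _ _ _ _ h
    haveI : Module.Flat D X := flat_of_TD_zero (ModuleCat.of D X) h
    haveI : Module.Flat E (ModuleCat.of E (E ⊗[D] X)) :=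
      (inferInstance : Module.Flat E (E ⊗[D] X))
    exact TD_zero_of_flat _
  | succ n ih =>
    intro X _ _ _ _ _ h
    have hS := freeCoverSC_shortExact (ModuleCat.of D X)
    have hZ : TD n (freeCoverSC (ModuleCat.of D X)).X₁ :=
      (TD_succ_iff (freeCoverSC (ModuleCat.of D X)) hS n).1 h
    have hπ : Function.Surjective (freeπ (ModuleCat.of D X)) :=
      Finsupp.linearCombination_id_surjective D X
    have hi : Function.Injective (LinearMap.ker (freeπ (ModuleCat.of D X))).subtype :=
      Subtype.val_injective
    have hex : Function.Exact (LinearMap.ker (freeπ (ModuleCat.of D X))).subtype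
      (freeπ (ModuleCat.of D X)) := LinearMap.exact_subtype_ker_map _
    haveI : Module.Flat Bb (X →₀ D) := Module.Flat.trans Bb D (X →₀ D)
    haveI hZflat : Module.Flat Bb (LinearMap.ker (freeπ (ModuleCat.of D X))) :=
      flat_of_exact Bb D (Z := LinearMap.ker (freeπ (ModuleCat.of D X))) (X := X) (F := X →₀ D)
        _ _ hi hπ hex
    have ihZ := ih (LinearMap.ker (freeπ (ModuleCat.of D X))) hZ
    exact TD_succ_baseChange_step Bb L D E (Z := LinearMap.ker (freeπ (ModuleCat.of D X)))
      (X := X) (F := X →₀ D) _ _ hi hπ hex n ihZ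

end BC

end Groth.Agent.Lib.Helper16.DiagTor
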