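import Groth.Agent.Lib.Helper16.DiagTor.Local

/-!
# Diagonal of finite Tor dimension: the fibres are regular (helper16)

If `B` is a flat `A`-algebra and `B` has finite Tor dimension over `B ⊗[A] B`, then for every field `K`
over `A` such that `K ⊗[A] B` is Noetherian, the ring `K ⊗[A] B` is regular
(`isRegularRing_fibre_of_diag`).
-/

set_option autoImplicit false
set_option linter.unusedSectionVars false
set_option linter.style.haveILetI false
universe u
open CategoryTheory TensorProduct

namespace Groth.Agent.Lib.Helper16.DiagTor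

open Groth.Agent.Lib.Helper35.TA Groth.Agent.Lib.Helper35.KL

section Retract

/-- Abstract form: `D → Bb` a retraction of the flat map `Bb → D`, `E = L ⊗_{Bb} D`, and `E → L` the
induced retraction.  Finite Tor dimension of `Bb` over `D` passes to `L` over `E`. -/
theorem hasFiniteTorDim_of_retract (Bb L D E : Type u) [CommRing Bb] [CommRing L] [CommRing D]
    [CommRing E] [Algebra Bb L] [Algebra Bb D] [Algebra Bb E] [Algebra L E] [Algebra D E]
    [IsScalarTower Bb L E] [IsScalarTower Bb D E] [Algebra.IsPushout Bb L D E] [Module.Flat Bb D]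
    [Algebra D Bb] [IsScalarTower Bb D Bb]
    [Algebra E L] [Algebra D L] [IsScalarTower D Bb L] [IsScalarTower D E L] [IsScalarTower Bb E L]
    [IsScalarTower L E L]
    (h : DRing.HasFiniteTorDim D Bb) : DRing.HasFiniteTorDim E L := by
  obtain ⟨n, hn⟩ := h
  rw [hasTorDimLE_iff_TD] at hn
  have h1 : TD n (ModuleCat.of E (E ⊗[D] Bb)) := TD_baseChange Bb L D E n Bb hn
  haveI : Algebra.IsPushout Bb D L E := Algebra.IsPushout.symm inferInstance
  have h2 : Algebra.IsPushout D Bb E L :=
    (Algebra.IsPushout.comp_iff Bb D (T := Bb) L E (T' := L)).1 inferInstance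
  have h3 : Algebra.IsPushout D E Bb L := Algebra.IsPushout.symm h2
  have e : (E ⊗[D] Bb) ≃ₗ[E] L := h3.out.equiv
  refine ⟨n, (hasTorDimLE_iff_TD n L).2 ?_⟩
  intro N p hp
  have hz := h1 N p hp
  exact hz.of_iso ((((Tor (ModuleCat.{u} E) p).mapIso e.toModuleIso).app N).symm)

end Retract

section ET

variable (A B L : Type u) [CommRing A] [CommRing B] [Algebra A B] [CommRing L] [Algebra A L]

/-- A type synonym for `L ⊗[A] B`, to keep instance search away from the tensor-product instances
(the ring `B ⊗[A] B`, resp. `K ⊗[A] B`, acts on `L`, which would induce a *wrong* action on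
`L ⊗[A] B` through the left factor). -/
def ET : Type u := L ⊗[A] B

noncomputable instance : CommRing (ET A B L) := inferInstanceAs (CommRing (L ⊗[A] B))

noncomputable instance : Algebra L (ET A B L) := inferInstanceAs (Algebra L (L ⊗[A] B))

noncomputable instance : Algebra A (ET A B L) := inferInstanceAs (Algebra A (L ⊗[A] B))

instance : IsScalarTower A L (ET A B L) := inferInstanceAs (IsScalarTower A L (L ⊗[A] B))

/-- The identity `L ⊗[A] B → ET A B L` as a ring isomorphism. -/
noncomputable def ET.equiv : (L ⊗[A] B) ≃+* ET A B L := RingEquiv.refl _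

variable [Algebra B L] [IsScalarTower A B L]

noncomputable instance : Algebra B (ET A B L) := inferInstanceAs (Algebra B (L ⊗[A] B))

instance : IsScalarTower B L (ET A B L) := inferInstanceAs (IsScalarTower B L (L ⊗[A] B))

noncomputable instance : Algebra (ET A B L) L :=
  (Algebra.TensorProduct.lift (Algebra.ofId L L) (IsScalarTower.toAlgHom A B L)
    (fun _ _ => Commute.all _ _)).toRingHom.toAlgebra

noncomputable instance : Algebra (B ⊗[A] B) (ET A B L) :=
  (Algebra.TensorProduct.map (Algebra.ofId B L) (AlgHom.id A B)).toRingHom.toAlgebra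

/-- pure tensors in `ET`. -/
def ET.tmul (l : L) (b : B) : ET A B L := (l ⊗ₜ[A] b : L ⊗[A] B)

variable {A B L}

theorem ET.algebraMap_L (l : L) : algebraMap L (ET A B L) l = ET.tmul A B L l 1 := rfl

theorem ET.algebraMap_B (b : B) :
    algebraMap B (ET A B L) b = ET.tmul A B L (algebraMap B L b) 1 := rfl

theorem ET.algebraMap_tmul (l : L) (b : B) :
    algebraMap (ET A B L) L (ET.tmul A B L l b) = l * algebraMap B L b := by
  change (Algebra.TensorProduct.lift (Algebra.ofId L L) (IsScalarTower.toAlgHom A B L)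
    (fun _ _ => Commute.all _ _)) (l ⊗ₜ b) = _
  simp

theorem ET.algebraMap_D (x y : B) :
    algebraMap (B ⊗[A] B) (ET A B L) (x ⊗ₜ y) = ET.tmul A B L (algebraMap B L x) y := by
  change (Algebra.TensorProduct.map (Algebra.ofId B L) (AlgHom.id A B)) (x ⊗ₜ y) = _
  simp [Algebra.ofId_apply, ET.tmul]

instance : IsScalarTower B (B ⊗[A] B) (ET A B L) := IsScalarTower.of_algebraMap_eq (fun x => by
  rw [Algebra.TensorProduct.algebraMap_apply, ET.algebraMap_D, ET.algebraMap_B]
  simp)

instance : Algebra.IsPushout B L (B ⊗[A] B) (ET A B L) := by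
  letI aDE : Algebra (B ⊗[A] B) (L ⊗[A] B) :=
    (Algebra.TensorProduct.map (Algebra.ofId B L) (AlgHom.id A B)).toRingHom.toAlgebra
  have hDE : ∀ (x y : B), algebraMap (B ⊗[A] B) (L ⊗[A] B) (x ⊗ₜ y) = algebraMap B L x ⊗ₜ y := by
    intro x y
    change (Algebra.TensorProduct.map (Algebra.ofId B L) (AlgHom.id A B)) (x ⊗ₜ y) = _
    simp [Algebra.ofId_apply]
  haveI : IsScalarTower B (B ⊗[A] B) (L ⊗[A] B) := IsScalarTower.of_algebraMap_eq (fun x => by
    rw [Algebra.TensorProduct.algebraMap_apply, Algebra.TensorProduct.algebraMap_apply, hDE]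
    simp)
  exact Algebra.IsPushout.tensorProduct_tensorProduct A B B L (by
      ext b
      simp [hDE])

instance : IsScalarTower B (ET A B L) L := IsScalarTower.of_algebraMap_eq (fun x => by
    rw [ET.algebraMap_B, ET.algebraMap_tmul]
    simp)

instance : IsScalarTower L (ET A B L) L := IsScalarTower.of_algebraMap_eq (fun x => by
    rw [ET.algebraMap_L, ET.algebraMap_tmul]
    simp)

end ET

section Concrete

variable {A B : Type u} [CommRing A] [CommRing B] [Algebra A B] [Module.Flat A B]
  [Algebra (B ⊗[A] B) B]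

theorem hasFiniteTorDim_ET_of_diag
    (hmul : ∀ x y : B, algebraMap (B ⊗[A] B) B (x ⊗ₜ[A] y) = x * y)
    (h : DRing.HasFiniteTorDim (B ⊗[A] B) B)
    (L : Type u) [CommRing L] [Algebra A L] [Algebra B L] [IsScalarTower A B L] :
    DRing.HasFiniteTorDim (ET A B L) L := by
  haveI : IsScalarTower B (B ⊗[A] B) B := IsScalarTower.of_algebraMap_eq (fun x => by
    rw [Algebra.TensorProduct.algebraMap_apply, hmul]
    simp)
  letI aDL : Algebra (B ⊗[A] B) L :=
    ((algebraMap B L).comp (algebraMap (B ⊗[A] B) B)).toAlgebra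
  haveI : IsScalarTower (B ⊗[A] B) B L := IsScalarTower.of_algebraMap_eq (fun x => rfl)
  haveI : IsScalarTower (B ⊗[A] B) (ET A B L) L := by
    refine IsScalarTower.of_algebraMap_eq (R := B ⊗[A] B) (S := ET A B L) (A := L) (fun x => ?_)
    change algebraMap B L (algebraMap (B ⊗[A] B) B x) =
      algebraMap (ET A B L) L (algebraMap (B ⊗[A] B) (ET A B L) x)
    induction x with
    | zero => simp
    | add x y hx hy => simp only [map_add, hx, hy]
    | tmul x y => rw [hmul, ET.algebraMap_D, ET.algebraMap_tmul, map_mul]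
  exact hasFiniteTorDim_of_retract B L (B ⊗[A] B) (ET A B L) h

end Concrete

section Fibre

variable {A B : Type u} [CommRing A] [CommRing B] [Algebra A B]

variable (K L : Type u) [Field K] [Field L] [Algebra A K] [Algebra A L]
    [Algebra K L] [IsScalarTower A K L] [Algebra B L] [IsScalarTower A B L]

/-- `K ⊗[A] B → L ⊗[A] B`. -/
@[reducible] noncomputable def fibreAlgebra : Algebra (K ⊗[A] B) (ET A B L) :=
  (Algebra.TensorProduct.map (Algebra.ofId K L) (AlgHom.id A B)).toRingHom.toAlgebra

/-- `K → L → L ⊗[A] B`. -/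
noncomputable instance fibreAlgebraK : Algebra K (ET A B L) :=
  inferInstanceAs (Algebra K (L ⊗[A] B))

attribute [local instance] fibreAlgebra

theorem fibreAlgebra_tmul (k : K) (b : B) :
    algebraMap (K ⊗[A] B) (ET A B L) (k ⊗ₜ b) = ET.tmul A B L (algebraMap K L k) b := by
  change (Algebra.TensorProduct.map (Algebra.ofId K L) (AlgHom.id A B)) (k ⊗ₜ b) = _
  simp [Algebra.ofId_apply, ET.tmul]

instance fibre_tower1 : IsScalarTower K L (ET A B L) :=
  inferInstanceAs (IsScalarTower K L (L ⊗[A] B))

instance fibre_tower2 : IsScalarTower K (K ⊗[A] B) (ET A B L) :=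
  IsScalarTower.of_algebraMap_eq (fun x => by
    rw [Algebra.TensorProduct.algebraMap_apply, fibreAlgebra_tmul]
    rfl)

theorem fibre_isPushout : Algebra.IsPushout K L (K ⊗[A] B) (ET A B L) := by
  letI aTE' : Algebra (K ⊗[A] B) (L ⊗[A] B) :=
    (Algebra.TensorProduct.map (Algebra.ofId K L) (AlgHom.id A B)).toRingHom.toAlgebra
  have hTE' : ∀ (k : K) (b : B),
      algebraMap (K ⊗[A] B) (L ⊗[A] B) (k ⊗ₜ b) = algebraMap K L k ⊗ₜ b := by
    intro k b
    change (Algebra.TensorProduct.map (Algebra.ofId K L) (AlgHom.id A B)) (k ⊗ₜ b) = _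
    simp [Algebra.ofId_apply]
  haveI : IsScalarTower K (K ⊗[A] B) (L ⊗[A] B) := IsScalarTower.of_algebraMap_eq (fun x => by
    rw [Algebra.TensorProduct.algebraMap_apply, Algebra.TensorProduct.algebraMap_apply, hTE']
    simp)
  exact Algebra.IsPushout.tensorProduct_tensorProduct A B K L (by
    ext b
    simp [hTE'])

theorem fibre_flat : Module.Flat (K ⊗[A] B) (ET A B L) := by
  have hpo : Algebra.IsPushout K (K ⊗[A] B) L (ET A B L) :=
    Algebra.IsPushout.symm (fibre_isPushout K L)
  exact Module.Flat.isBaseChange K (K ⊗[A] B) L (ET A B L) hpo.out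

/-- From `L` over `L ⊗[A] B` down to `L` over `K ⊗[A] B`, for a field extension `L/K`. -/
theorem hasFiniteTorDim_fibre_of_ET
    [Algebra (K ⊗[A] B) L]
    (hK : ∀ (k : K) (b : B), algebraMap (K ⊗[A] B) L (k ⊗ₜ b) = algebraMap K L k * algebraMap B L b)
    (h : DRing.HasFiniteTorDim (ET A B L) L) : DRing.HasFiniteTorDim (K ⊗[A] B) L := by
  haveI : Module.Flat (K ⊗[A] B) (ET A B L) := fibre_flat K L
  haveI : IsScalarTower (K ⊗[A] B) (ET A B L) L := by
    refine IsScalarTower.of_algebraMap_eq (R := K ⊗[A] B) (S := ET A B L) (A := L) (fun x => ?_)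
    induction x with
    | zero => simp
    | add x y hx hy => simp only [map_add, hx, hy]
    | tmul x y => rw [hK, fibreAlgebra_tmul, ET.algebraMap_tmul]
  exact Groth.Agent.Lib.Helper35.FTD.comp (A := K ⊗[A] B) (B := ET A B L) L
    (Groth.Agent.Lib.Helper35.FTD.of_flat _) h

end Fibre

section ClaimG

variable {A B : Type u} [CommRing A] [CommRing B] [Algebra A B] [Module.Flat A B]
  [Algebra (B ⊗[A] B) B]

/-- **Key claim.** If the diagonal of the flat `A`-algebra `B` has finite Tor dimension, then every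
Noetherian fibre ring `K ⊗[A] B` over a field `K` is a regular ring. -/
theorem isRegularRing_fibre_of_diag
    (hmul : ∀ x y : B, algebraMap (B ⊗[A] B) B (x ⊗ₜ[A] y) = x * y)
    (h : DRing.HasFiniteTorDim (B ⊗[A] B) B)
    (K : Type u) [Field K] [Algebra A K] [IsNoetherianRing (K ⊗[A] B)] :
    IsRegularRing (K ⊗[A] B) := by
  rw [isRegularRing_iff]
  intro q hq
  letI aBL : Algebra B q.ResidueField :=
    ((algebraMap (K ⊗[A] B) q.ResidueField).comp
      (Algebra.TensorProduct.includeRight : B →ₐ[A] K ⊗[A] B).toRingHom).toAlgebra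
  have hBL : ∀ b : B, algebraMap B q.ResidueField b =
      algebraMap (K ⊗[A] B) q.ResidueField ((1 : K) ⊗ₜ[A] b) := fun b => rfl
  haveI : IsScalarTower A B q.ResidueField := IsScalarTower.of_algebraMap_eq (fun a => by
    rw [hBL, IsScalarTower.algebraMap_apply A (K ⊗[A] B) q.ResidueField]
    congr 1
    rw [Algebra.TensorProduct.algebraMap_apply, Algebra.algebraMap_eq_smul_one,
      Algebra.algebraMap_eq_smul_one, TensorProduct.smul_tmul])
  have hK : ∀ (k : K) (b : B), algebraMap (K ⊗[A] B) q.ResidueField (k ⊗ₜ b) =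
      algebraMap K q.ResidueField k * algebraMap B q.ResidueField b := by
    intro k b
    have : (k ⊗ₜ[A] b : K ⊗[A] B) = algebraMap K (K ⊗[A] B) k * ((1 : K) ⊗ₜ[A] b) := by
      simp [Algebra.TensorProduct.algebraMap_apply]
    rw [this, map_mul, ← IsScalarTower.algebraMap_apply, hBL]
  have h1 := hasFiniteTorDim_ET_of_diag hmul h q.ResidueField
  have h2 := hasFiniteTorDim_fibre_of_ET K q.ResidueField hK h1
  have h3 := hasFiniteTorDim_localization_residueField (K ⊗[A] B) q h2
  exact isRegularLocalRing_of_hasFiniteTorDim_residueField _ h3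

end ClaimG

end Groth.Agent.Lib.Helper16.DiagTor
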