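import Groth.Agent.Lib.Helper16.DiagTor.BaseChange
import Groth.Agent.Lib.Helper35.FTD
import Groth.Agent.Lib.Helper35.RegTD
import Groth.Agent.Lib.Helper35.RegPerf2
import Groth.Agent.Lib.Helper73.Serre

/-!
# Finite Tor dimension of the residue field implies regularity (helper16)
-/

set_option autoImplicit false
set_option linter.unusedSectionVars false
set_option linter.style.haveILetI false
universe u
open CategoryTheory TensorProduct

namespace Groth.Agent.Lib.Helper16.DiagTor

open Groth.Agent.Lib.Helper35.TA Groth.Agent.Lib.Helper35.KL

section Syz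

variable {A : Type u} [CommRing A] [IsNoetherianRing A]

theorem TD_zero_Syz_of_TD (M : ModuleCat.{u} A) (k : ℕ) :
    ∀ i : ℕ, TD k (Syz M i) → TD 0 (Syz M (i + k)) := by
  induction k with
  | zero => intro i h; exact h
  | succ k ih =>
    intro i h
    have hfl : Module.Flat A (syzSC M i).X₂ := inferInstanceAs (Module.Flat A (coverObj (Syz M i)))
    have h1 : TD k (Syz M (i + 1)) := (TD_succ_iff (syzSC M i) (syzSC_shortExact M i) k).1 h
    have h2 := ih (i + 1) h1
    rwa [show i + 1 + k = i + (k + 1) by omega] at h2

end Syz

section Local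

variable (R : Type u) [CommRing R] [IsLocalRing R] [IsNoetherianRing R]

/-- A Noetherian local ring whose residue field has finite Tor dimension is regular. -/
theorem isRegularLocalRing_of_hasFiniteTorDim_residueField
    (h : DRing.HasFiniteTorDim R (IsLocalRing.ResidueField R)) : IsRegularLocalRing R := by
  obtain ⟨d, hd⟩ := h
  rw [hasTorDimLE_iff_TD] at hd
  have h0 : TD 0 (Syz (ModuleCat.of R (IsLocalRing.ResidueField R)) (0 + d)) :=
    TD_zero_Syz_of_TD _ d 0 hd
  have hflat : Module.Flat R (Syz (ModuleCat.of R (IsLocalRing.ResidueField R)) (0 + d)) :=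
    flat_of_TD_zero _ h0
  haveI : Module.Finite R (ModuleCat.of R (IsLocalRing.ResidueField R)) :=
    inferInstanceAs (Module.Finite R (IsLocalRing.ResidueField R))
  have hfin : Module.Finite R (Syz (ModuleCat.of R (IsLocalRing.ResidueField R)) (0 + d)) :=
    finite_Syz _ _
  have hfree : Module.Free R (Syz (ModuleCat.of R (IsLocalRing.ResidueField R)) (0 + d)) :=
    Module.free_of_flat_of_isLocalRing
  have hproj : Module.Projective R (Syz (ModuleCat.of R (IsLocalRing.ResidueField R)) (0 + d)) :=
    inferInstance
  have hpd1 : HasProjectiveDimensionLT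
      (Syz (ModuleCat.of R (IsLocalRing.ResidueField R)) (0 + d)) 1 := by
    rw [← projective_iff_hasProjectiveDimensionLT_one, ← IsProjective.iff_projective]
    exact hproj
  have hpd := pdLT_of_pdLT_Syz (ModuleCat.of R (IsLocalRing.ResidueField R)) d 0 hpd1
  exact Groth.Agent.Lib.Helper73.Serre.serre_aux _ R (d + 1) rfl hpd

end Local

section AtPrime

variable (T : Type u) [CommRing T] (q : Ideal T) [q.IsPrime]

/-- Finite Tor dimension of the residue field at `q` localises. -/
theorem hasFiniteTorDim_localization_residueField
    (h : DRing.HasFiniteTorDim T q.ResidueField) :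
    DRing.HasFiniteTorDim (Localization.AtPrime q)
      (IsLocalRing.ResidueField (Localization.AtPrime q)) := by
  haveI : IsLocalization (Algebra.algebraMapSubmonoid q.ResidueField q.primeCompl)
      q.ResidueField := by
    apply IsLocalization.of_le_isUnit
    rintro x ⟨y, hy, rfl⟩
    change IsUnit (algebraMap T q.ResidueField y)
    rw [isUnit_iff_ne_zero, Ne, Ideal.algebraMap_residueField_eq_zero]
    exact hy
  haveI : Algebra.IsPushout T q.ResidueField (Localization.AtPrime q) q.ResidueField :=
    Algebra.isPushout_of_isLocalization q.primeCompl (Localization.AtPrime q) q.ResidueField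
      q.ResidueField
  exact Groth.Agent.Lib.Helper35.FTD.baseChange (R := T) (S := q.ResidueField)
    (R' := Localization.AtPrime q) (S' := q.ResidueField) h

end AtPrime

end Groth.Agent.Lib.Helper16.DiagTor
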