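import Groth.Agent.Lib.Helper16.DiagTor.Fibre
import Groth.Agent.Lib.Helper14.SmoothFibre
import Groth.Agent.S2116

/-!
# Smoothness at a point from regularity of a geometric fibre of the local ring (helper16)
-/

set_option autoImplicit false
set_option linter.unusedSectionVars false
set_option linter.style.haveILetI false
universe u
open TensorProduct

namespace Groth.Agent.Lib.Helper16.DiagTor

section EssLocal

variable (A B : Type u) [CommRing A] [CommRing B] [Algebra A B] [IsLocalRing B]
  [Algebra.EssFiniteType A B]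

/-- The prime of the chosen finite type subalgebra under the maximal ideal of `B`. -/
noncomputable abbrev essPrime : Ideal (Algebra.EssFiniteType.subalgebra A B) :=
  (IsLocalRing.maximalIdeal B).comap (algebraMap (Algebra.EssFiniteType.subalgebra A B) B)

instance : (essPrime A B).IsPrime := Ideal.comap_isPrime _ _

/-- A local essentially finite type algebra is the localization of a finite type subalgebra at a
prime. -/
instance essPrime_isLocalization : IsLocalization.AtPrime B (essPrime A B) := by
  refine IsLocalization.of_le (Algebra.EssFiniteType.submonoid A B) (essPrime A B).primeCompl ?_ ?_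
  · intro x hx
    have hx' : IsUnit (algebraMap (Algebra.EssFiniteType.subalgebra A B) B x) := hx
    intro hmem
    exact (IsLocalRing.notMem_maximalIdeal.mpr hx') hmem
  · intro r hr
    have : algebraMap (Algebra.EssFiniteType.subalgebra A B) B r ∉ IsLocalRing.maximalIdeal B :=
      hr
    exact IsLocalRing.notMem_maximalIdeal.mp this

end EssLocal

section L1

/-- Over a perfect field: a finite type algebra `F` is smooth at the contraction of any prime of a
regular localization `G` of `F`. -/
theorem isSmoothAt_comap_of_isRegularRing_localization (Ω F G : Type u) [Field Ω] [PerfectField Ω]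
    [CommRing F] [CommRing G] [Algebra Ω F] [Algebra.FiniteType Ω F] [Algebra F G]
    (N : Submonoid F) [IsLocalization N G] [IsRegularRing G] (Q' : Ideal G) [Q'.IsPrime] :
    Algebra.IsSmoothAt Ω (Q'.comap (algebraMap F G)) := by
  haveI hloc : IsLocalization.AtPrime (Localization.AtPrime Q') (Q'.comap (algebraMap F G)) :=
    IsLocalization.isLocalization_isLocalization_atPrime_isLocalization N
      (Localization.AtPrime Q') Q'
  have e : Localization.AtPrime (Q'.comap (algebraMap F G)) ≃ₐ[F] Localization.AtPrime Q' :=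
    IsLocalization.algEquiv (Q'.comap (algebraMap F G)).primeCompl _ _
  haveI : IsRegularLocalRing (Localization.AtPrime Q') :=
    IsRegularRing.isRegularLocalRing_localization Q'
  haveI : IsRegularLocalRing (Localization.AtPrime (Q'.comap (algebraMap F G))) :=
    IsRegularLocalRing.of_ringEquiv e.symm.toRingEquiv
  haveI : Algebra.EssFiniteType Ω (Q'.comap (algebraMap F G)).ResidueField :=
    Algebra.EssFiniteType.comp Ω F _
  haveI : Algebra.FormallySmooth Ω (Q'.comap (algebraMap F G)).ResidueField := inferInstance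
  exact Groth.Agent.S2116.formallySmooth_of_isRegularLocalRing Ω F (Q'.comap (algebraMap F G))

end L1

section L2

variable {A B C Ω : Type u} [CommRing A] [CommRing B] [CommRing C] [Field Ω] [PerfectField Ω]
  [Algebra A B] [Algebra A C] [Algebra C B] [IsScalarTower A C B]
  [Algebra.FinitePresentation A C] [IsLocalRing B] [Module.Flat A B]
  [Algebra A Ω] [Algebra B Ω] [IsScalarTower A B Ω]

attribute [local instance] Algebra.TensorProduct.rightAlgebra in
/-- The fibre criterion in the form needed: `B` a flat local `A`-algebra which is a localization of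
the finitely presented `A`-algebra `C`, `Ω` a perfect field over the residue field of `B`, and
`Ω ⊗[A] B` a regular ring.  Then `C` is smooth over `A` at the prime under the maximal ideal. -/
theorem isSmoothAt_comap_maximalIdeal_of_isRegularRing_tensor
    (M : Submonoid C) [IsLocalization M B]
    (hΩ : ∀ b : B, algebraMap B Ω b = 0 ↔ b ∈ IsLocalRing.maximalIdeal B)
    [IsRegularRing (Ω ⊗[A] B)]
    (q : Ideal C) [q.IsPrime] (hq : q = (IsLocalRing.maximalIdeal B).comap (algebraMap C B))
    [IsLocalization.AtPrime B q] :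
    Algebra.IsSmoothAt A q := by
  -- `F → G`
  letI aFG : Algebra (Ω ⊗[A] C) (Ω ⊗[A] B) :=
    (Algebra.TensorProduct.map (AlgHom.id Ω Ω) (IsScalarTower.toAlgHom A C B)).toRingHom.toAlgebra
  have hFG : ∀ (w : Ω) (x : C),
      algebraMap (Ω ⊗[A] C) (Ω ⊗[A] B) (w ⊗ₜ x) = w ⊗ₜ (algebraMap C B x) := by
    intro w x
    change (Algebra.TensorProduct.map (AlgHom.id Ω Ω) (IsScalarTower.toAlgHom A C B)) (w ⊗ₜ x) = _
    simp
  haveI : IsScalarTower Ω (Ω ⊗[A] C) (Ω ⊗[A] B) := IsScalarTower.of_algebraMap_eq (fun w => by
    rw [Algebra.TensorProduct.algebraMap_apply, Algebra.TensorProduct.algebraMap_apply, hFG]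
    simp)
  haveI hloc : IsLocalization (M.map (Algebra.TensorProduct.includeRight (R := A) (A := Ω)))
      (Ω ⊗[A] B) :=
    IsLocalization.tensorProduct_tensorProduct_right A Ω M B (by
      ext x
      simp [hFG])
  -- the prime `Q'` of `G`
  let φ : Ω ⊗[A] B →ₐ[Ω] Ω :=
    Algebra.TensorProduct.lift (Algebra.ofId Ω Ω) (IsScalarTower.toAlgHom A B Ω)
      (fun _ _ => Commute.all _ _)
  have hφ : ∀ (w : Ω) (b : B), φ (w ⊗ₜ b) = w * algebraMap B Ω b := by
    intro w b
    simp [φ]
  have hφsurj : Function.Surjective φ := fun a => ⟨a ⊗ₜ 1, by simp [hφ]⟩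
  haveI hQ'max : (RingHom.ker φ).IsMaximal := RingHom.ker_isMaximal_of_surjective _ hφsurj
  have hsm : Algebra.IsSmoothAt Ω ((RingHom.ker φ).comap (algebraMap (Ω ⊗[A] C) (Ω ⊗[A] B))) :=
    isSmoothAt_comap_of_isRegularRing_localization Ω (Ω ⊗[A] C) (Ω ⊗[A] B)
      (M.map (Algebra.TensorProduct.includeRight (R := A) (A := Ω))) (RingHom.ker φ)
  have hunder : ((RingHom.ker φ).comap (algebraMap (Ω ⊗[A] C) (Ω ⊗[A] B))).under C = q := by
    ext c
    rw [Ideal.under_def, Ideal.mem_comap, Ideal.mem_comap, RingHom.mem_ker, hq, Ideal.mem_comap,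
      ← hΩ]
    change φ (algebraMap (Ω ⊗[A] C) (Ω ⊗[A] B) (1 ⊗ₜ c)) = 0 ↔ _
    rw [hFG, hφ, one_mul]
  have hflatq : Module.Flat A (Localization.AtPrime q) := by
    have e : Localization.AtPrime q ≃ₐ[C] B := IsLocalization.algEquiv q.primeCompl _ _
    exact Module.Flat.of_linearEquiv (e.restrictScalars A).toLinearEquiv
  have aux : ∀ (q' : Ideal C) [q'.IsPrime], q' = q →
      (Module.Flat A (Localization.AtPrime q') → Algebra.IsSmoothAt A q') →
      Algebra.IsSmoothAt A q := by
    rintro q' _ rfl hh
    exact hh hflatq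
  refine aux _ hunder (fun hflat => ?_)
  exact Groth.Agent.Lib.Helper14.isSmoothAt_under_of_isPushout_field (R := A) (A := C)
    (K := Ω) (F := Ω ⊗[A] C) (Field.toIsField Ω)
    ((RingHom.ker φ).comap (algebraMap (Ω ⊗[A] C) (Ω ⊗[A] B))) hflat hsm

end L2

end Groth.Agent.Lib.Helper16.DiagTor
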